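import Cfsg.Agent.Classical.SL
import Cfsg.Prelude.Def_Local

/-!
The two elementary abelian subgroups of order 16 of a Sylow 2-subgroup of `PSL(3,4)` and their
normalisers.
-/

set_option autoImplicit false
set_option linter.style.haveILetI false
set_option linter.unusedSectionVars false

namespace Cfsg.Lib.LThreeFourPar

open Matrix

universe u

variable {F : Type u} [Field F]

local notation "G3" => SpecialLinearGroup (Fin 3) F
local notation "Q3" => ProjectiveSpecialLinearGroup (Fin 3) F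

/-- the projection -/
def proj : G3 →* Q3 := QuotientGroup.mk' _

/-- the group of upper unitriangular matrices -/
def upper : Subgroup G3 where
  carrier := {g | g 1 0 = 0 ∧ g 2 0 = 0 ∧ g 2 1 = 0 ∧ g 0 0 = 1 ∧ g 1 1 = 1 ∧ g 2 2 = 1}
  one_mem' := by simp
  mul_mem' := by
    rintro g h ⟨a, b, c, d, e, f⟩ ⟨a', b', c', d', e', f'⟩
    simp [Matrix.mul_apply, Fin.sum_univ_three, a, b, c, d, e, f, a', b', c', d', e', f']
  inv_mem' := by
    rintro g ⟨a, b, c, d, e, f⟩
    simp [Matrix.SpecialLinearGroup.coe_inv, Matrix.adjugate_fin_three, a, b, c, d, e, f]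

/-- first row transvections -/
def rowG : Subgroup G3 where
  carrier := {g | g ∈ upper (F := F) ∧ g 1 2 = 0}
  one_mem' := ⟨one_mem _, by simp⟩
  mul_mem' := by
    rintro g h ⟨⟨a, b, c, d, e, f⟩, k⟩ ⟨⟨a', b', c', d', e', f'⟩, k'⟩
    refine ⟨upper.mul_mem ⟨a, b, c, d, e, f⟩ ⟨a', b', c', d', e', f'⟩, ?_⟩
    simp [Matrix.mul_apply, Fin.sum_univ_three, a, e, k, k']
  inv_mem' := by
    rintro g ⟨⟨a, b, c, d, e, f⟩, k⟩
    refine ⟨upper.inv_mem ⟨a, b, c, d, e, f⟩, ?_⟩
    simp [Matrix.SpecialLinearGroup.coe_inv, Matrix.adjugate_fin_three, a, b, d, k]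

/-- last column transvections -/
def colG : Subgroup G3 where
  carrier := {g | g ∈ upper (F := F) ∧ g 0 1 = 0}
  one_mem' := ⟨one_mem _, by simp⟩
  mul_mem' := by
    rintro g h ⟨⟨a, b, c, d, e, f⟩, k⟩ ⟨⟨a', b', c', d', e', f'⟩, k'⟩
    refine ⟨upper.mul_mem ⟨a, b, c, d, e, f⟩ ⟨a', b', c', d', e', f'⟩, ?_⟩
    simp [Matrix.mul_apply, Fin.sum_univ_three, d, k, k', c']
  inv_mem' := by
    rintro g ⟨⟨a, b, c, d, e, f⟩, k⟩
    refine ⟨upper.inv_mem ⟨a, b, c, d, e, f⟩, ?_⟩
    simp [Matrix.SpecialLinearGroup.coe_inv, Matrix.adjugate_fin_three, a, b, c, d, e, f, k]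

theorem rowG_le : rowG (F := F) ≤ upper := fun _ h => h.1

theorem colG_le : colG (F := F) ≤ upper := fun _ h => h.1

/-- the unitriangular element with given entries -/
def uel (a b c : F) : G3 := ⟨!![1, a, b; 0, 1, c; 0, 0, 1], by simp [Matrix.det_fin_three]⟩

theorem uel_coe (a b c : F) : (uel a b c).1 = !![1, a, b; 0, 1, c; 0, 0, 1] := rfl

theorem uel_mem (a b c : F) : uel a b c ∈ upper := by
  show _ ∧ _ ∧ _ ∧ _ ∧ _ ∧ _
  simp [uel_coe]

theorem uel_mem_row (a b : F) : uel a b 0 ∈ rowG :=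
  ⟨uel_mem a b 0, by simp [uel_coe]⟩

theorem uel_mem_col (b c : F) : uel 0 b c ∈ colG :=
  ⟨uel_mem 0 b c, by simp [uel_coe]⟩

theorem eq_uel {g : G3} (hg : g ∈ upper) : g = uel (g 0 1) (g 0 2) (g 1 2) := by
  obtain ⟨a, b, c, d, e, f⟩ := hg
  apply Subtype.ext
  ext i j
  fin_cases i <;> fin_cases j <;> simp [uel_coe, a, b, c, d, e, f]

theorem uel_mul (a b c a' b' c' : F) : uel a b c * uel a' b' c' = uel (a + a') (b' + a * c' + b) (c' + c) := by
  apply Subtype.ext
  ext i j
  fin_cases i <;> fin_cases j <;> simp [uel_coe, Matrix.mul_apply, Fin.sum_univ_three] <;> ring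

theorem card_upper [Fintype F] : Nat.card (upper (F := F)) = Fintype.card F ^ 3 := by
  let e : upper (F := F) ≃ F × F × F :=
    { toFun := fun g => ((g : G3) 0 1, (g : G3) 0 2, (g : G3) 1 2)
      invFun := fun v => ⟨uel v.1 v.2.1 v.2.2, uel_mem _ _ _⟩
      left_inv := fun g => Subtype.ext (eq_uel g.2).symm
      right_inv := fun v => by simp [uel_coe] }
  rw [Nat.card_congr e, Nat.card_prod, Nat.card_prod, Nat.card_eq_fintype_card]
  ring

theorem card_rowG [Fintype F] : Nat.card (rowG (F := F)) = Fintype.card F ^ 2 := by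
  let e : rowG (F := F) ≃ F × F :=
    { toFun := fun g => ((g : G3) 0 1, (g : G3) 0 2)
      invFun := fun v => ⟨uel v.1 v.2 0, uel_mem_row _ _⟩
      left_inv := fun g => Subtype.ext (by
        have h := eq_uel g.2.1
        rw [g.2.2] at h
        exact h.symm)
      right_inv := fun v => by simp [uel_coe] }
  rw [Nat.card_congr e, Nat.card_prod, Nat.card_eq_fintype_card]
  ring

theorem card_colG [Fintype F] : Nat.card (colG (F := F)) = Fintype.card F ^ 2 := by
  let e : colG (F := F) ≃ F × F :=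
    { toFun := fun g => ((g : G3) 0 2, (g : G3) 1 2)
      invFun := fun v => ⟨uel 0 v.1 v.2, uel_mem_col _ _⟩
      left_inv := fun g => Subtype.ext (by
        have h := eq_uel g.2.1
        rw [g.2.2] at h
        exact h.symm)
      right_inv := fun v => by simp [uel_coe] }
  rw [Nat.card_congr e, Nat.card_prod, Nat.card_eq_fintype_card]
  ring

theorem card_psl_four [Fintype F] (hF : Fintype.card F = 4) :
    Nat.card (ProjectiveSpecialLinearGroup (Fin 3) F) = 20160 := by
  have hc := Cfsg.Lib.Classical.card_SL_mul_eq_prod (F := F) (n := 3) (by norm_num)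
  have h := Subgroup.card_eq_card_quotient_mul_card_subgroup
    (Subgroup.center (SpecialLinearGroup (Fin 3) F))
  rw [Cfsg.Lib.Classical.card_center_SL, Nat.card_eq_fintype_card (α := F), hF] at h
  norm_num [Fin.prod_univ_three, hF, -Nat.card_eq_fintype_card] at hc h ⊢
  show Nat.card (SpecialLinearGroup (Fin 3) F ⧸ Subgroup.center (SpecialLinearGroup (Fin 3) F)) = 20160
  omega

theorem eq_one_of_center {g : G3} (hg : g ∈ upper) (hc : g ∈ Subgroup.center G3) : g = 1 := by
  obtain ⟨r, -, hr⟩ := Matrix.SpecialLinearGroup.mem_center_iff.1 hc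
  apply Subtype.ext
  rw [← hr]
  have h00 : r = 1 := by
    have := congrFun (congrFun hr 0) 0
    simp [Matrix.scalar_apply] at this
    rw [this]; exact hg.2.2.2.1
  subst h00
  simp

theorem proj_inj {g h : G3} (hg : g ∈ upper) (hh : h ∈ upper) (he : proj g = proj h) : g = h := by
  have := (QuotientGroup.eq (s := Subgroup.center G3)).1 he
  exact inv_mul_eq_one.1 (eq_one_of_center (upper.mul_mem (upper.inv_mem hg) hh) this)

theorem card_map_upper [Fintype F] {S : Subgroup G3} (hS : S ≤ upper) :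
    Nat.card (S.map proj) = Nat.card S :=
  (Nat.card_congr (Equiv.ofBijective (fun x : S => (⟨proj x.1, x.1, x.2, rfl⟩ : S.map proj))
    ⟨fun x y h => Subtype.ext (proj_inj (hS x.2) (hS y.2) (congrArg Subtype.val h)),
      fun ⟨_, x, hx, h⟩ => ⟨⟨x, hx⟩, Subtype.ext h⟩⟩)).symm

theorem elementary_le [CharP F 2] [Fintype F] (hF : Fintype.card F = 4) {B : Subgroup Q3}
    (hB : B ≤ upper.map proj) (h2 : ∀ b ∈ B, b ^ 2 = 1) (h16 : Nat.card B = 16) :
    B = rowG.map proj ∨ B = colG.map proj := by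
  have key : ∀ b ∈ B, b ∈ rowG.map proj ∨ b ∈ colG.map proj := by
    intro b hb
    obtain ⟨u, hu, rfl⟩ := hB hb
    have h := h2 _ hb
    rw [← map_pow] at h
    have hu2 : u ^ 2 ∈ upper := upper.pow_mem hu 2
    have h1 : u ^ 2 = 1 := proj_inj hu2 upper.one_mem (by rw [map_one]; exact h)
    rw [eq_uel hu, pow_two, uel_mul] at h1
    have h02 := congrArg (fun g : G3 => g 0 2) h1
    simp [uel_coe] at h02
    rw [add_assoc, add_comm _ (u 0 2), ← add_assoc, CharTwo.add_self_eq_zero, zero_add] at h02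
    rcases mul_eq_zero.1 h02 with h | h
    · exact Or.inr ⟨u, ⟨hu, h⟩, rfl⟩
    · exact Or.inl ⟨u, ⟨hu, h⟩, rfl⟩
  have hsub : B ≤ rowG.map proj ∨ B ≤ colG.map proj := by
    by_contra hc
    rw [not_or, SetLike.not_le_iff_exists, SetLike.not_le_iff_exists] at hc
    obtain ⟨⟨x, hx, hx'⟩, y, hy, hy'⟩ := hc
    have hx2 := (key x hx).resolve_left hx'
    have hy2 := (key y hy).resolve_right hy'
    rcases key _ (mul_mem hx hy) with h | h
    · exact hx' (by simpa using mul_mem h (inv_mem hy2))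
    · exact hy' (by simpa using mul_mem (inv_mem hx2) h)
  haveI : Finite G3 := inferInstance
  refine hsub.imp (fun h => ?_) (fun h => ?_) <;> refine Subgroup.eq_of_le_of_card_ge h ?_
  · rw [card_map_upper rowG_le, card_rowG, hF, h16]; norm_num
  · rw [card_map_upper colG_le, card_colG, hF, h16]; norm_num

/-- the stabiliser of the first basis line -/
def par : Subgroup G3 where
  carrier := {g | g 1 0 = 0 ∧ g 2 0 = 0}
  one_mem' := by simp
  mul_mem' := by
    rintro g h ⟨a, b⟩ ⟨a', b'⟩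
    simp [Matrix.mul_apply, Fin.sum_univ_three, a, b, a', b']
  inv_mem' := by
    rintro g ⟨a, b⟩
    simp [Matrix.SpecialLinearGroup.coe_inv, Matrix.adjugate_fin_three, a, b]

/-- the lower block -/
def blk (g : G3) : Matrix (Fin 2) (Fin 2) F := !![g 1 1, g 1 2; g 2 1, g 2 2]

theorem blk_mul {g h : G3} (hg : g ∈ par) : blk (g * h) = blk g * blk h := by
  obtain ⟨a, b⟩ := hg
  ext i j
  fin_cases i <;> fin_cases j <;> simp [blk, Matrix.mul_apply, Fin.sum_univ_three, a, b]

theorem det_eq {g : G3} (hg : g ∈ par) : g 0 0 * (blk g).det = 1 := by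
  obtain ⟨a, b⟩ := hg
  have h := g.2
  rw [Matrix.det_fin_three] at h
  simp [blk, Matrix.det_fin_two]
  linear_combination h + (g 0 1 * g 2 2 - g 0 2 * g 2 1) * a + (g 0 2 * g 1 1 - g 0 1 * g 1 2) * b

theorem cube [Fintype F] (hF : Fintype.card F = 4) {x : F} (hx : x ≠ 0) : x ^ 3 = 1 := by
  have := FiniteField.pow_card_sub_one_eq_one x hx
  rwa [hF] at this

variable [Fintype F] (hF : Fintype.card F = 4)

/-- the action on the quotient plane, normalised to determinant one -/
def phi : par (F := F) →* SpecialLinearGroup (Fin 2) F where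
  toFun g := ⟨(blk g.1).det • blk g.1, by
    rw [Matrix.det_smul, Fintype.card_fin]
    have h := cube hF (right_ne_zero_of_mul_eq_one (det_eq g.2))
    linear_combination h⟩
  map_one' := by
    apply Subtype.ext
    ext i j
    fin_cases i <;> fin_cases j <;> simp [blk, Matrix.det_fin_two]
  map_mul' g h := by
    apply Subtype.ext
    show (blk (g.1 * h.1)).det • blk (g.1 * h.1) = ((blk g.1).det • blk g.1) * ((blk h.1).det • blk h.1)
    rw [blk_mul g.2, Matrix.det_mul, Matrix.smul_mul, Matrix.mul_smul, smul_smul]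

theorem proj_commute_iff [CharP F 2] {g : G3} {x y : G3} (hx : x * x = 1) (hy : y * y = 1)
    (h : proj g * proj x = proj y * proj g) : g * x = y * g := by
  have hc : (y * g)⁻¹ * (g * x) ∈ Subgroup.center G3 :=
    (QuotientGroup.eq (s := Subgroup.center G3)).1 (by
      show proj (y * g) = proj (g * x)
      rw [map_mul, map_mul, h])
  set z := (y * g)⁻¹ * (g * x) with hz
  have hgx : g * x = y * g * z := by rw [hz]; group
  have hz2 : z * z = 1 := by
    have hzc : ∀ w, w * z = z * w := fun w => Subgroup.mem_center_iff.1 hc w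
    have h1 : y = g * x * g⁻¹ * z⁻¹ := by
      rw [hgx, mul_assoc y g z, hzc g]; group
    have h2 : y * y = g * (x * x) * g⁻¹ * (z * z)⁻¹ := by
      rw [h1]
      calc g * x * g⁻¹ * z⁻¹ * (g * x * g⁻¹ * z⁻¹) = g * x * g⁻¹ * (z⁻¹ * (g * x * g⁻¹)) * z⁻¹ := by group
        _ = g * x * g⁻¹ * ((g * x * g⁻¹) * z⁻¹) * z⁻¹ := by
          rw [(Commute.inv_right (hzc (g * x * g⁻¹))).eq]
        _ = _ := by group
    rw [hx, hy, mul_one, mul_inv_cancel, one_mul, eq_comm, inv_eq_one] at h2
    exact h2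
  have hz1 : z = 1 := by
    obtain ⟨r, -, hr⟩ := Matrix.SpecialLinearGroup.mem_center_iff.1 hc
    have h00 := congrArg (fun w : G3 => w 0 0) hz2
    simp [Matrix.mul_apply, Fin.sum_univ_three] at h00
    rw [← hr] at h00
    simp [Matrix.scalar_apply] at h00
    have h1 : r = 1 := by
      have : (r + 1) * (r + 1) = 0 := by
        linear_combination h00 + (r + 1) * (CharTwo.two_eq_zero : (2 : F) = 0)
      have := CharTwo.add_eq_zero.1 (mul_self_eq_zero.1 this)
      exact this
    subst h1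
    apply Subtype.ext
    rw [← hr]; simp
  rw [hgx, hz1, mul_one]

theorem uel_row_sq [CharP F 2] (a b : F) : uel a b 0 * uel a b 0 = 1 := by
  rw [uel_mul]
  apply Subtype.ext
  ext i j
  fin_cases i <;> fin_cases j <;> simp [uel_coe, CharTwo.add_self_eq_zero]

theorem row_move {g : G3} (hg : g ∈ par) {a b a' b' : F}
    (h1 : g 0 0 * a = a' * g 1 1 + b' * g 2 1) (h2 : g 0 0 * b = a' * g 1 2 + b' * g 2 2) :
    g * uel a b 0 = uel a' b' 0 * g := by
  obtain ⟨p, q⟩ := hg
  apply Subtype.ext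
  ext i j
  fin_cases i <;> fin_cases j <;> simp [uel_coe, Matrix.mul_apply, Fin.sum_univ_three, p, q]
  · linear_combination h1
  · linear_combination h2

theorem row_eq {x : Q3} (hx : x ∈ rowG.map proj) : ∃ a b, x = proj (uel a b 0) := by
  obtain ⟨u, ⟨hu, h0⟩, rfl⟩ := hx
  exact ⟨u 0 1, u 0 2, by rw [← h0, ← eq_uel hu]⟩

theorem mem_par_of_normalize [CharP F 2] {g : G3}
    (h : proj g ∈ Subgroup.normalizer ((rowG (F := F)).map proj : Set Q3)) : g ∈ par := by
  obtain ⟨a, b, he⟩ := row_eq ((Subgroup.mem_normalizer_iff.1 h _).1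
    ⟨uel 1 0 0, uel_mem_row 1 0, rfl⟩)
  have h1 : proj g * proj (uel 1 0 0) = proj (uel a b 0) * proj g := by
    rw [← he]; group
  have := proj_commute_iff (uel_row_sq 1 0) (uel_row_sq a b) h1
  constructor
  · have h := congrArg (fun w : G3 => w 1 1) this
    simpa [uel_coe, Matrix.mul_apply, Fin.sum_univ_three] using h
  · have h := congrArg (fun w : G3 => w 2 1) this
    simpa [uel_coe, Matrix.mul_apply, Fin.sum_univ_three] using h

include hF in
theorem par_le_normalizer :
    par.map proj ≤ Subgroup.normalizer (rowG.map (proj (F := F)) : Set Q3) := by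
  have key : ∀ g : G3, g ∈ par → ∀ x ∈ rowG.map (proj (F := F)), proj g * x * (proj g)⁻¹ ∈ rowG.map (proj (F := F)) := by
    intro g hg x hx
    obtain ⟨a, b, rfl⟩ := row_eq hx
    set d := (blk g).det with hd
    have hdd := det_eq hg
    have hd3 := cube hF (right_ne_zero_of_mul_eq_one hdd)
    set a' := d * d * g 0 0 * (a * g 2 2 + -(b * g 2 1))
    set b' := d * d * g 0 0 * (-(a * g 1 2) + b * g 1 1)
    have hd' : d = g 1 1 * g 2 2 - g 1 2 * g 2 1 := by simp [hd, blk, Matrix.det_fin_two]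
    have hm : g * uel a b 0 = uel a' b' 0 * g := by
      refine row_move hg ?_ ?_
      · linear_combination (-(g 0 0 * a)) * hd3 + (g 0 0 * a * d * d) * hd'
      · linear_combination (-(g 0 0 * b)) * hd3 + (g 0 0 * b * d * d) * hd'
    refine ⟨uel a' b' 0, uel_mem_row _ _, ?_⟩
    rw [← map_mul, ← map_inv, ← map_mul, hm, mul_inv_cancel_right]
  rintro _ ⟨g, hg, rfl⟩
  refine Subgroup.mem_normalizer_iff.2 fun x => ⟨key g hg x, fun h => ?_⟩
  have := key g⁻¹ (par.inv_mem hg) _ h
  simpa [mul_assoc] using this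

theorem center_le_par : Subgroup.center G3 ≤ par := by
  intro g hg
  obtain ⟨r, -, hr⟩ := Matrix.SpecialLinearGroup.mem_center_iff.1 hg
  constructor <;> (show g.1 _ _ = 0) <;> rw [← hr] <;> simp [Matrix.scalar_apply]

include hF in
theorem normalizer_eq [CharP F 2] :
    Subgroup.normalizer (rowG.map (proj (F := F)) : Set Q3) = par.map proj := by
  refine le_antisymm (fun x hx => ?_) (par_le_normalizer hF)
  obtain ⟨g, rfl⟩ := QuotientGroup.mk'_surjective _ x
  exact ⟨g, mem_par_of_normalize hx, rfl⟩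

include hF in
theorem phi_eq_one [CharP F 2] {g : par (F := F)}
    (h : ∃ s : F, (blk g.1).det • blk g.1 = s • (1 : Matrix (Fin 2) (Fin 2) F)) :
    proj g.1 ∈ rowG.map (proj (F := F)) := by
  obtain ⟨s, hs⟩ := h
  set d := (blk g.1).det with hd
  have hdd := det_eq g.2
  have hd0 : d ≠ 0 := right_ne_zero_of_mul_eq_one hdd
  have hs2 : s * s = d ^ 3 := by
    have := congrArg Matrix.det hs
    rw [Matrix.det_smul, Matrix.det_smul, Fintype.card_fin, Matrix.det_one, ← hd] at this
    linear_combination -this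
  have hs0 : s ≠ 0 := fun h => pow_ne_zero 3 hd0 (by rw [← hs2, h, mul_zero])
  have e := fun i j => congrFun (congrFun hs i) j
  have e00 : d * g.1 1 1 = s := by simpa [blk] using e 0 0
  have e01 : d * g.1 1 2 = 0 := by simpa [blk] using e 0 1
  have e10 : d * g.1 2 1 = 0 := by simpa [blk] using e 1 0
  have e11 : d * g.1 2 2 = s := by simpa [blk] using e 1 1
  have z12 : g.1 1 2 = 0 := (mul_eq_zero.1 e01).resolve_left hd0
  have z21 : g.1 2 1 = 0 := (mul_eq_zero.1 e10).resolve_left hd0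
  have hd1 : d = g.1 1 1 * g.1 2 2 := by simp [hd, blk, Matrix.det_fin_two, z12]
  have h12 : g.1 1 1 = g.1 2 2 := mul_left_cancel₀ hd0 (e00.trans e11.symm)
  set m := g.1 1 1 with hm
  have hm0 : m ≠ 0 := fun h => hs0 (by rw [← e00, h, mul_zero])
  have hm3 := cube hF hm0
  have h00 : g.1 0 0 = m := by
    have : g.1 0 0 * d = m * d := by
      rw [hdd, hd1, ← h12]; linear_combination -hm3
    exact mul_right_cancel₀ hd0 this
  let z : G3 := ⟨Matrix.scalar (Fin 3) m, by
      simp [Matrix.det_diagonal, Finset.prod_const, hm3]⟩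
  have hzc : z ∈ Subgroup.center G3 :=
    Matrix.SpecialLinearGroup.mem_center_iff.2 ⟨m, by rw [Fintype.card_fin]; exact hm3, rfl⟩
  have hmul : g.1 = uel (m⁻¹ * g.1 0 1) (m⁻¹ * g.1 0 2) 0 * z := by
    apply Subtype.ext
    rw [Matrix.SpecialLinearGroup.coe_mul]
    ext i j
    obtain ⟨p, q⟩ := g.2
    fin_cases i <;> fin_cases j <;>
      simp [z, uel_coe, Matrix.mul_apply, Fin.sum_univ_three, p, q, z12, z21, h00, ← h12, ← hm] <;> field_simp
  refine ⟨uel (m⁻¹ * g.1 0 1) (m⁻¹ * g.1 0 2) 0, uel_mem_row _ _,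
    (QuotientGroup.eq (s := Subgroup.center G3)).2 ?_⟩
  generalize uel (m⁻¹ * g.1 0 1) (m⁻¹ * g.1 0 2) 0 = u at hmul ⊢
  rw [hmul, inv_mul_cancel_left]
  exact hzc

/-- the property of the two parabolic radicals -/
def Good (F : Type u) [Field F] {X : Type*} [Group X] (A : Subgroup X) : Prop :=
  (∃ f : ↥(Subgroup.normalizer (A : Set X)) →* ProjectiveSpecialLinearGroup (Fin 2) F,
      Function.Surjective f ∧ f.ker = A.subgroupOf _) ∧
  (∀ a ∈ A, ∀ b ∈ A, a ≠ 1 → b ≠ 1 → ∃ g ∈ Subgroup.normalizer (A : Set X), g * a * g⁻¹ = b) ∧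
  Subgroup.centralizer (A : Set X) ≤ A

theorem Good.map {X : Type*} [Group X] {A : Subgroup X} (h : Good F A) (e : X ≃* X) :
    Good F (A.map e.toMonoidHom) := by
  obtain ⟨⟨f, hf, hk⟩, htr, hc⟩ := h
  have hN : Subgroup.normalizer ((A.map e.toMonoidHom : Subgroup X) : Set X) =
      (Subgroup.normalizer (A : Set X)).map e.toMonoidHom :=
    (Subgroup.map_equiv_normalizer_eq A e).symm
  refine ⟨⟨(f.comp ((Subgroup.normalizer (A : Set X)).equivMapOfInjective e.toMonoidHom e.injective).symm.toMonoidHom).comp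
    (MulEquiv.subgroupCongr hN).toMonoidHom, ?_, ?_⟩, ?_, ?_⟩
  · exact (hf.comp (MulEquiv.surjective _)).comp (MulEquiv.surjective _)
  · ext ⟨x, hx⟩
    rw [hN] at hx
    obtain ⟨y, hy, rfl⟩ := hx
    have h1 : ((Subgroup.normalizer (A : Set X)).equivMapOfInjective e.toMonoidHom e.injective).symm
        (MulEquiv.subgroupCongr hN ⟨e y, hN ▸ ⟨y, hy, rfl⟩⟩) = ⟨y, hy⟩ := by
      rw [MulEquiv.symm_apply_eq]
      exact Subtype.ext rfl
    rw [MonoidHom.mem_ker, Subgroup.mem_subgroupOf]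
    show f (((Subgroup.normalizer (A : Set X)).equivMapOfInjective e.toMonoidHom e.injective).symm
      (MulEquiv.subgroupCongr hN ⟨e y, hN ▸ ⟨y, hy, rfl⟩⟩)) = 1 ↔ e y ∈ A.map e.toMonoidHom
    rw [h1, ← MonoidHom.mem_ker, hk, Subgroup.mem_subgroupOf]
    exact ⟨fun h => ⟨y, h, rfl⟩, fun ⟨z, hz, he⟩ => e.injective he ▸ hz⟩
  · rintro _ ⟨a, ha, rfl⟩ _ ⟨b, hb, rfl⟩ ha1 hb1
    obtain ⟨g, hg, rfl⟩ := htr a ha b hb (fun h => ha1 (by simp [h])) (fun h => hb1 (by simp [h]))
    exact ⟨e g, hN ▸ ⟨g, hg, rfl⟩, by simp⟩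
  · intro x hx
    obtain ⟨y, rfl⟩ := e.surjective x
    refine ⟨y, hc (Subgroup.mem_centralizer_iff.2 fun a ha => e.injective ?_), rfl⟩
    simpa using Subgroup.mem_centralizer_iff.1 hx (e a) ⟨a, ha, rfl⟩

include hF in
theorem good_row [CharP F 2] : Good F (rowG.map (proj (F := F))) := by
  have hN := normalizer_eq hF
  let psi : par (F := F) →* ProjectiveSpecialLinearGroup (Fin 2) F :=
    (QuotientGroup.mk' _).comp (phi hF)
  have hkerpsi : ∀ g : par (F := F), psi g = 1 → proj g.1 ∈ rowG.map (proj (F := F)) := by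
    intro g hg
    obtain ⟨s, -, hs⟩ := Matrix.SpecialLinearGroup.mem_center_iff.1 ((QuotientGroup.eq_one_iff _).1 hg)
    exact phi_eq_one hF ⟨s, by
      rw [show (blk g.1).det • blk g.1 = (phi hF g).1 from rfl, ← hs]
      ext i j; simp [Matrix.scalar_apply, Matrix.one_apply, Matrix.diagonal_apply]⟩
  let p1 : par (F := F) →* (par (F := F)).map proj := proj.subgroupMap par
  have hp1 : Function.Surjective p1 := proj.subgroupMap_surjective par
  have hle : p1.ker ≤ psi.ker := by
    intro g hg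
    have hg' : g.1 ∈ Subgroup.center G3 := (QuotientGroup.eq_one_iff _).1 (congrArg Subtype.val hg)
    obtain ⟨r, hr3, hr⟩ := Matrix.SpecialLinearGroup.mem_center_iff.1 hg'
    rw [Fintype.card_fin] at hr3
    have : phi hF g = 1 := by
      apply Subtype.ext
      show (blk g.1).det • blk g.1 = 1
      have hb : blk g.1 = !![r, 0; 0, r] := by
        unfold blk
        rw [← hr]; simp [Matrix.scalar_apply]
      rw [hb]
      ext i j
      fin_cases i <;> fin_cases j <;> simp [Matrix.det_fin_two] <;> linear_combination hr3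
    exact (MonoidHom.mem_ker).2 (by show QuotientGroup.mk' _ (phi hF g) = 1; rw [this, map_one])
  let f0 : (par (F := F)).map proj →* ProjectiveSpecialLinearGroup (Fin 2) F :=
    p1.liftOfRightInverse (Function.surjInv hp1) (Function.rightInverse_surjInv hp1) ⟨psi, hle⟩
  have hf0 : ∀ g, f0 (p1 g) = psi g := fun g =>
    MonoidHom.liftOfRightInverse_comp_apply p1 _ (Function.rightInverse_surjInv hp1) ⟨psi, hle⟩ g
  have hblock : ∀ M : SpecialLinearGroup (Fin 2) F, ∃ g : par (F := F), g.1 0 0 = 1 ∧ blk g.1 = M.1 := by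
    intro M
    have hd := M.2
    rw [Matrix.det_fin_two] at hd
    refine ⟨⟨⟨!![1, 0, 0; 0, M.1 0 0, M.1 0 1; 0, M.1 1 0, M.1 1 1], by
      simp [Matrix.det_fin_three]; linear_combination hd⟩, by constructor <;> simp⟩, by simp, ?_⟩
    ext i j
    fin_cases i <;> fin_cases j <;> simp [blk]
  refine ⟨⟨f0.comp (MulEquiv.subgroupCongr hN).toMonoidHom, ?_, ?_⟩, ?_, ?_⟩
  · show Function.Surjective (f0 ∘ MulEquiv.subgroupCongr hN)
    refine Function.Surjective.comp (fun y => ?_) (MulEquiv.surjective _)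
    obtain ⟨M, rfl⟩ := QuotientGroup.mk'_surjective _ y
    obtain ⟨g, -, hg⟩ := hblock M
    refine ⟨p1 g, (hf0 g).trans (congrArg (fun w => QuotientGroup.mk' _ w) (show phi hF g = M from Subtype.ext ?_))⟩
    show (blk g.1).det • blk g.1 = M.1
    rw [hg, M.2, one_smul]
  · ext ⟨x, hx⟩
    rw [hN] at hx
    obtain ⟨g, hg, rfl⟩ := hx
    rw [MonoidHom.mem_ker, Subgroup.mem_subgroupOf]
    show f0 (p1 ⟨g, hg⟩) = 1 ↔ proj g ∈ rowG.map proj
    rw [hf0]
    refine ⟨hkerpsi ⟨g, hg⟩, fun h => ?_⟩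
    obtain ⟨a, b, he⟩ := row_eq h
    have hu : uel a b 0 ∈ par := ⟨(uel_mem a b 0).1, (uel_mem a b 0).2.1⟩
    have : p1 ⟨g, hg⟩ = p1 ⟨_, hu⟩ := Subtype.ext he
    rw [← hf0, this, hf0]
    show QuotientGroup.mk' _ (phi hF _) = 1
    have : phi hF ⟨_, hu⟩ = 1 := by
      apply Subtype.ext
      show (blk (uel a b 0)).det • blk (uel a b 0) = 1
      ext i j
      fin_cases i <;> fin_cases j <;> simp [blk, uel_coe, Matrix.det_fin_two]
    rw [this, map_one]
  · intro x hx y hy hx1 hy1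
    obtain ⟨a, b, rfl⟩ := row_eq hx
    obtain ⟨a', b', rfl⟩ := row_eq hy
    have hab : ∀ a b : F, proj (uel a b 0) ≠ 1 → ∃ M : SpecialLinearGroup (Fin 2) F, M.1 0 0 = a ∧ M.1 0 1 = b := by
      intro a b h
      by_cases ha : a = 0
      · have hb : b ≠ 0 := fun hb => h (by
          subst ha hb
          rw [← map_one (proj (F := F))]
          congr 1
          apply Subtype.ext
          ext i j
          fin_cases i <;> fin_cases j <;> simp [uel_coe])
        exact ⟨⟨!![a, b; -b⁻¹, 0], by simp [Matrix.det_fin_two, hb]⟩, by simp, by simp⟩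
      · exact ⟨⟨!![a, b; 0, a⁻¹], by simp [Matrix.det_fin_two, ha]⟩, by simp, by simp⟩
    obtain ⟨M, rfl, rfl⟩ := hab a b hx1
    obtain ⟨M', rfl, rfl⟩ := hab a' b' hy1
    obtain ⟨g, hg0, hg⟩ := hblock (M'⁻¹ * M)
    have e1 : M'.1 * blk g.1 = M.1 := by
      rw [hg, ← Matrix.SpecialLinearGroup.coe_mul, mul_inv_cancel_left]
    have hm : g.1 * uel (M.1 0 0) (M.1 0 1) 0 = uel (M'.1 0 0) (M'.1 0 1) 0 * g.1 := by
      refine row_move g.2 ?_ ?_
      · rw [hg0, one_mul, ← e1]; simp [blk, Matrix.mul_apply, Fin.sum_univ_two]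
      · rw [hg0, one_mul, ← e1]; simp [blk, Matrix.mul_apply, Fin.sum_univ_two]
    exact ⟨proj g.1, hN ▸ ⟨g.1, g.2, rfl⟩, by rw [← map_mul, ← map_inv, ← map_mul, hm, mul_inv_cancel_right]⟩
  · intro x hx
    have hxn := Subgroup.centralizer_le_normalizer _ hx
    rw [hN] at hxn
    obtain ⟨g, hg, rfl⟩ := hxn
    have hcm : ∀ a b : F, g * uel a b 0 = uel a b 0 * g := fun a b =>
      proj_commute_iff (uel_row_sq a b) (uel_row_sq a b)
        (Subgroup.mem_centralizer_iff.1 hx _ ⟨uel a b 0, uel_mem_row a b, rfl⟩).symm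
    have c1 := congrArg (fun w : G3 => w 0 1) (hcm 1 0)
    have c2 := congrArg (fun w : G3 => w 0 2) (hcm 1 0)
    have c3 := congrArg (fun w : G3 => w 0 1) (hcm 0 1)
    have c4 := congrArg (fun w : G3 => w 0 2) (hcm 0 1)
    simp [uel_coe, Matrix.mul_apply, Fin.sum_univ_three] at c1 c2 c3 c4
    refine phi_eq_one hF (g := ⟨g, hg⟩) ⟨(blk g).det * g 0 0, ?_⟩
    ext i j
    fin_cases i <;> fin_cases j <;> simp [blk]
    · exact Or.inl (by linear_combination -c1)
    · exact Or.inr c2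
    · exact Or.inr c3
    · exact Or.inl (by linear_combination -c4)

/-- the reversal of the basis -/
def flip [CharP F 2] : G3 := ⟨!![0, 0, 1; 0, 1, 0; 1, 0, 0], by
  simp [Matrix.det_fin_three, CharTwo.neg_eq]⟩

/-- the inverse transpose -/
def invT : G3 ≃* G3 where
  toFun g := g⁻¹.transpose
  invFun g := g⁻¹.transpose
  left_inv g := Subtype.ext (by
    show (Matrix.adjugate ((Matrix.adjugate g.1)ᵀ))ᵀ = g.1
    rw [Matrix.adjugate_transpose, Matrix.transpose_transpose, Matrix.adjugate_adjugate _ (by simp), g.2]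
    simp)
  right_inv g := Subtype.ext (by
    show (Matrix.adjugate ((Matrix.adjugate g.1)ᵀ))ᵀ = g.1
    rw [Matrix.adjugate_transpose, Matrix.transpose_transpose, Matrix.adjugate_adjugate _ (by simp), g.2]
    simp)
  map_mul' g h := Subtype.ext (by
    show (Matrix.adjugate (g.1 * h.1))ᵀ = (Matrix.adjugate g.1)ᵀ * (Matrix.adjugate h.1)ᵀ
    rw [Matrix.adjugate_mul_distrib, Matrix.transpose_mul])

include hF in
theorem exists_swap [CharP F 2] :
    ∃ e : Q3 ≃* Q3, (rowG.map proj).map e.toMonoidHom = colG.map (proj (F := F)) := by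
  let t : G3 ≃* G3 := invT.trans (MulAut.conj flip)
  have hc : (Subgroup.center G3).map t.toMonoidHom = Subgroup.center G3 :=
    (Subgroup.characteristic_iff_map_eq.1 inferInstance t)
  refine ⟨QuotientGroup.congr _ _ t hc, Subgroup.eq_of_le_of_card_ge ?_ ?_⟩
  · rintro _ ⟨_, ⟨u, ⟨hu, h0⟩, rfl⟩, rfl⟩
    have key : ∀ a b : F, (flip : G3) * invT (uel a b 0) = uel 0 b a * flip := by
      intro a b
      apply Subtype.ext
      show !![(0 : F), 0, 1; 0, 1, 0; 1, 0, 0] * (Matrix.adjugate (uel a b 0).1)ᵀ =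
        (uel 0 b a).1 * !![(0 : F), 0, 1; 0, 1, 0; 1, 0, 0]
      ext i j
      fin_cases i <;> fin_cases j <;>
        simp [uel_coe,
          Matrix.adjugate_fin_three, Matrix.mul_apply, Fin.sum_univ_three, CharTwo.neg_eq]
    refine ⟨uel 0 (u 0 2) (u 0 1), uel_mem_col _ _, ?_⟩
    show proj _ = proj (flip * invT u * flip⁻¹)
    rw [eq_uel hu, h0, key, mul_inv_cancel_right]
    simp [uel_coe]
  · rw [Subgroup.card_map_of_injective (f := (QuotientGroup.congr _ _ t hc).toMonoidHom) (MulEquiv.injective _),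
      card_map_upper rowG_le, card_map_upper colG_le, card_rowG, card_colG]

include hF in
/-- The structure of a Sylow 2-subgroup of `PSL(3,4)`. -/
theorem sylow_pair [CharP F 2] {T H K : Subgroup Q3} (hT : IsPGroup 2 T) (hH : H ≤ T) (hK : K ≤ T)
    (hne : H ≠ K) (h2 : ∀ x ∈ H, x ^ 2 = 1) (k2 : ∀ x ∈ K, x ^ 2 = 1) (h16 : Nat.card H = 16)
    (k16 : Nat.card K = 16) :
    Good F H ∧ Good F K ∧ T ≤ Subgroup.normalizer (H : Set Q3) ∧ T ≤ H ⊔ K := by
  haveI : Fact (Nat.Prime 2) := ⟨Nat.prime_two⟩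
  set U : Subgroup Q3 := upper.map proj with hU
  have hUcard : Nat.card U = 64 := by rw [card_map_upper le_rfl, card_upper, hF]; norm_num
  have hQ : Nat.card Q3 = 20160 := card_psl_four hF
  let P : Sylow 2 Q3 := Sylow.ofCard U (by rw [hUcard, hQ]; rw [show (20160 : ℕ) = 2 ^ 6 * 315 from rfl, Nat.factorization_mul (by norm_num) (by norm_num), Finsupp.add_apply, Nat.Prime.factorization_pow Nat.prime_two, Nat.factorization_eq_zero_of_not_dvd (show ¬ 2 ∣ 315 by norm_num)]; simp)
  obtain ⟨P', hP'⟩ := hT.exists_le_sylow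
  obtain ⟨g, hg⟩ := MulAction.exists_smul_eq Q3 P P'
  let c : Q3 ≃* Q3 := MulAut.conj g
  have hTU : T ≤ U.map c.toMonoidHom := by
    intro x hx
    have := hP' hx
    rw [← hg] at this
    rw [Sylow.smul_def, Sylow.pointwise_smul_def] at this
    exact this
  set A := rowG.map (proj (F := F)) with hA
  set B := colG.map (proj (F := F)) with hB
  have hAU : A ≤ U := Subgroup.map_mono rowG_le
  have hBU : B ≤ U := Subgroup.map_mono colG_le
  have hcls : ∀ L ≤ T, (∀ x ∈ L, x ^ 2 = 1) → Nat.card L = 16 →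
      L = A.map c.toMonoidHom ∨ L = B.map c.toMonoidHom := by
    intro L hL l2 l16
    have hLc : L = (L.map c.symm.toMonoidHom).map c.toMonoidHom := by
      rw [Subgroup.map_map]; simp
    have hle : L.map c.symm.toMonoidHom ≤ U := by
      rintro _ ⟨x, hx, rfl⟩
      obtain ⟨y, hy, rfl⟩ := hTU (hL hx)
      simpa using hy
    rcases elementary_le hF hle (by
        rintro _ ⟨x, hx, rfl⟩
        rw [← map_pow, l2 x hx, map_one])
      (by rw [Subgroup.card_map_of_injective c.symm.injective, l16]) with h | h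
    · left; rw [hLc, h]
    · right; rw [hLc, h]
  obtain ⟨e, he⟩ := exists_swap hF
  have gA : Good F (A.map c.toMonoidHom) := (good_row hF).map c
  have gB : Good F (B.map c.toMonoidHom) := by rw [hB, ← he]; exact ((good_row hF).map e).map c
  have hAB : A ≠ B := by
    intro h
    obtain ⟨u, hu, he⟩ : proj (uel (1 : F) 0 0) ∈ B := h ▸ ⟨_, uel_mem_row 1 0, rfl⟩
    have := proj_inj hu.1 (uel_mem 1 0 0) he
    subst this
    simpa [uel_coe] using hu.2
  have hsup : U ≤ A ⊔ B := by
    rintro _ ⟨u, hu, rfl⟩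
    have : u = uel 0 (u 0 2) (u 1 2) * uel (u 0 1) 0 0 := by
      rw [uel_mul]; conv_lhs => rw [eq_uel hu]
      simp
    rw [this, map_mul, sup_comm]
    exact Subgroup.mul_mem_sup ⟨_, uel_mem_col _ _, rfl⟩ ⟨_, uel_mem_row _ _, rfl⟩
  have hUA : U ≤ Subgroup.normalizer (A : Set Q3) := by
    rw [hA, normalizer_eq hF]
    exact Subgroup.map_mono fun u hu => ⟨hu.1, hu.2.1⟩
  have hUB : U ≤ Subgroup.normalizer (B : Set Q3) := by
    intro v hv
    rw [Subgroup.mem_normalizer_iff_map_conj_eq]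
    have hle : B.map (MulAut.conj v).toMonoidHom ≤ U := by
      rintro _ ⟨x, hx, rfl⟩
      exact mul_mem (mul_mem hv (hBU hx)) (inv_mem hv)
    rcases elementary_le hF hle (by
        rintro _ ⟨x, ⟨u, hu, rfl⟩, rfl⟩
        rw [← map_pow, ← map_pow]
        have : u ^ 2 = 1 := by
          rw [pow_two, eq_uel hu.1, hu.2, uel_mul]
          apply Subtype.ext
          ext i j
          fin_cases i <;> fin_cases j <;> simp [uel_coe, CharTwo.add_self_eq_zero]
        rw [this, map_one, map_one])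
      (by rw [Subgroup.card_map_of_injective (MulAut.conj v).injective, hB, card_map_upper colG_le,
        card_colG, hF]; norm_num) with h | h
    · refine absurd ?_ hAB
      have hv' := Subgroup.mem_normalizer_iff_map_conj_eq.1 (hUA hv)
      exact Subgroup.map_injective (MulAut.conj v).injective (hv'.trans h.symm)
    · exact h
  rcases hcls H hH h2 h16 with rfl | rfl <;> rcases hcls K hK k2 k16 with rfl | rfl
  · exact absurd rfl hne
  · refine ⟨gA, gB, hTU.trans ?_, hTU.trans ?_⟩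
    · rw [← Subgroup.map_equiv_normalizer_eq]; exact Subgroup.map_mono hUA
    · rw [← Subgroup.map_sup]; exact Subgroup.map_mono hsup
  · refine ⟨gB, gA, hTU.trans ?_, hTU.trans ?_⟩
    · rw [← Subgroup.map_equiv_normalizer_eq]; exact Subgroup.map_mono hUB
    · rw [← Subgroup.map_sup, sup_comm]; exact Subgroup.map_mono hsup
  · exact absurd rfl hne

end Cfsg.Lib.LThreeFourPar
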